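import Mathlib.AlgebraicGeometry.Morphisms.Finite
import Mathlib.AlgebraicGeometry.Morphisms.QuasiSeparated
import Mathlib.AlgebraicGeometry.Morphisms.OpenImmersion
import Mathlib.AlgebraicGeometry.Morphisms.IsIso
import Mathlib.RingTheory.Localization.Integral
import Mathlib.RingTheory.Adjoin.Tower
import Mathlib.RingTheory.IntegralClosure.IntegrallyClosed

/-!
# Finite schemes over quasi-compact opens of affine schemes extend
-/

set_option autoImplicit false
set_option backward.isDefEq.respectTransparency false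
set_option linter.style.haveILetI false

universe u

open CategoryTheory CategoryTheory.Limits AlgebraicGeometry TopologicalSpace

noncomputable section

namespace GrothLib.FiniteExt9

section Algebra

open Polynomial

variable {A C : Type u} [CommRing A] [CommRing C] [Algebra A C]

theorem exists_pow_isIntegral (f : A) (Af L : Type u) [CommRing Af] [CommRing L] [Algebra A Af]
    [Algebra C L] [Algebra A L] [IsScalarTower A C L] [Algebra Af L] [IsScalarTower A Af L]
    [IsLocalization.Away f Af] [IsLocalization.Away (algebraMap A C f) L] [Module.Finite Af L] (c : C) :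
    ∃ n : ℕ, IsIntegral A (algebraMap A C f ^ n * c) := by
  nontriviality C
  haveI : Nontrivial A := (algebraMap A C).domain_nontrivial
  obtain ⟨⟨_, r, rfl⟩, hr⟩ := (IsIntegral.of_finite Af (algebraMap C L c)).exists_multiple_integral_of_isLocalization
    (Submonoid.powers f) (algebraMap C L c)
  obtain ⟨P, hP, hP0⟩ := hr
  let x := algebraMap A C f ^ r * c
  have hx : algebraMap C L (aeval x (P * X)) = 0 := by
    rw [← aeval_algebraMap_apply, map_mul, aeval_X]
    have e : algebraMap C L x = (⟨f ^ r, r, rfl⟩ : Submonoid.powers f) • algebraMap C L c := by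
      rw [Submonoid.smul_def, Algebra.smul_def, map_pow]
      simp only [x, map_mul, map_pow, ← IsScalarTower.algebraMap_apply]
    rw [e, aeval_def, hP0, zero_mul]
  obtain ⟨⟨_, M, rfl⟩, hM⟩ := (IsLocalization.map_eq_zero_iff (Submonoid.powers (algebraMap A C f)) L _).1 hx
  refine ⟨M + r, ((P * X).scaleRoots (f ^ M)), (monic_scaleRoots_iff _).2 (hP.mul monic_X), ?_⟩
  rw [show algebraMap A C f ^ (M + r) * c = algebraMap A C (f ^ M) * x by
    rw [map_pow, pow_add, mul_assoc], scaleRoots_eval₂_mul, ← aeval_def, map_pow, ← pow_mul]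
  have hd : 1 ≤ (P * X).natDegree := by
    rw [hP.natDegree_mul monic_X, natDegree_X]; omega
  obtain ⟨e, he⟩ := Nat.exists_eq_add_of_le (Nat.le_mul_of_pos_right M hd)
  rw [he, pow_add, mul_right_comm, hM, zero_mul]

theorem exists_finset_pow_mem (f : A) (Af L : Type u) [CommRing Af] [CommRing L] [Algebra A Af]
    [Algebra C L] [Algebra A L] [IsScalarTower A C L] [Algebra Af L] [IsScalarTower A Af L]
    [IsLocalization.Away f Af] [IsLocalization.Away (algebraMap A C f) L] [Module.Finite Af L] :
    ∃ T : Finset C, ∀ c : C, ∃ n : ℕ, algebraMap A C f ^ n * c ∈ Algebra.adjoin A (T : Set C) := by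
  classical
  let a := algebraMap A C f
  obtain ⟨S, hS⟩ := Module.Finite.fg_top (R := Af) (M := L)
  choose num hnum using fun y : L => IsLocalization.Away.surj (S := L) a y
  let T : Finset C := S.image fun y => (hnum y).choose
  refine ⟨T, fun c => ?_⟩
  let B := Algebra.adjoin A (T : Set C)
  let N : Submodule Af L :=
    { carrier := {y | ∃ n : ℕ, ∃ z ∈ B, algebraMap C L a ^ n * y = algebraMap C L z}
      add_mem' := by
        rintro y y' ⟨n, z, hz, h⟩ ⟨n', z', hz', h'⟩
        refine ⟨n + n', a ^ n' * z + a ^ n * z', B.add_mem (B.mul_mem (B.pow_mem (B.algebraMap_mem f) _) hz)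
          (B.mul_mem (B.pow_mem (B.algebraMap_mem f) _) hz'), ?_⟩
        rw [map_add, map_mul, map_mul, ← h, ← h', map_pow, map_pow]
        ring
      zero_mem' := ⟨0, 0, B.zero_mem, by simp⟩
      smul_mem' := by
        rintro r y ⟨n, z, hz, h⟩
        obtain ⟨m, a', ha'⟩ := IsLocalization.Away.surj (S := Af) f r
        refine ⟨m + n, algebraMap A C a' * z, B.mul_mem (B.algebraMap_mem a') hz, ?_⟩
        rw [Algebra.smul_def, map_mul, ← h, pow_add]
        simp only [a, ← IsScalarTower.algebraMap_apply]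
        rw [IsScalarTower.algebraMap_apply A Af L a', ← ha', map_mul, map_pow, ← IsScalarTower.algebraMap_apply]
        ring }
  have hN : (⊤ : Submodule Af L) ≤ N := by
    rw [← hS, Submodule.span_le]
    intro y hy
    refine ⟨num y, (hnum y).choose, Algebra.subset_adjoin (Finset.mem_image_of_mem _ hy), ?_⟩
    rw [mul_comm]
    exact (hnum y).choose_spec
  obtain ⟨n, z, hz, h⟩ := hN (Submodule.mem_top (x := algebraMap C L c))
  rw [← map_pow, ← map_mul] at h
  obtain ⟨M, hM⟩ := IsLocalization.Away.exists_of_eq a h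
  refine ⟨M + n, ?_⟩
  rw [pow_add, mul_assoc, hM]
  exact B.mul_mem (B.pow_mem (B.algebraMap_mem f) _) hz

/-- A finite subalgebra with the same localisations. -/
theorem exists_finite_subalgebra (s : Finset A)
    (hT : ∀ f ∈ s, ∃ T : Finset C, ∀ c : C, ∃ n : ℕ, algebraMap A C f ^ n * c ∈ Algebra.adjoin A (T : Set C))
    (hint : ∀ f ∈ s, ∀ c : C, ∃ n : ℕ, IsIntegral A (algebraMap A C f ^ n * c)) :
    ∃ B : Subalgebra A C, Module.Finite A B ∧
      ∀ f ∈ s, ∀ c : C, ∃ n : ℕ, algebraMap A C f ^ n * c ∈ B := by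
  classical
  choose! T hT using hT
  choose! e he using hint
  let S : Finset C := s.biUnion fun f => (T f).image fun c => algebraMap A C f ^ e f c * c
  refine ⟨Algebra.adjoin A (S : Set C), Module.Finite.iff_fg.2 (fg_adjoin_of_finite S.finite_toSet ?_),
    fun f hf c => ?_⟩
  · intro x hx
    obtain ⟨f, hf, hx⟩ := Finset.mem_biUnion.1 hx
    obtain ⟨c, -, rfl⟩ := Finset.mem_image.1 hx
    exact he f hf c
  let B := Algebra.adjoin A (S : Set C)
  let a := algebraMap A C f
  suffices key : ∀ z ∈ Algebra.adjoin A (T f : Set C), ∃ m : ℕ, a ^ m * z ∈ B by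
    obtain ⟨n, hn⟩ := hT f hf c
    obtain ⟨m, hm⟩ := key _ hn
    exact ⟨m + n, by rw [pow_add, mul_assoc]; exact hm⟩
  intro z hz
  induction hz using Algebra.adjoin_induction with
  | mem x hx =>
    exact ⟨e f x, Algebra.subset_adjoin (Finset.mem_biUnion.2 ⟨f, hf, Finset.mem_image_of_mem _ hx⟩)⟩
  | algebraMap r => exact ⟨0, by simpa using B.algebraMap_mem r⟩
  | add x y _ _ hx hy =>
    obtain ⟨m, hm⟩ := hx
    obtain ⟨m', hm'⟩ := hy
    refine ⟨m + m', ?_⟩
    rw [show a ^ (m + m') * (x + y) = a ^ m' * (a ^ m * x) + a ^ m * (a ^ m' * y) by ring]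
    exact B.add_mem (B.mul_mem (B.pow_mem (B.algebraMap_mem f) _) hm)
      (B.mul_mem (B.pow_mem (B.algebraMap_mem f) _) hm')
  | mul x y _ _ hx hy =>
    obtain ⟨m, hm⟩ := hx
    obtain ⟨m', hm'⟩ := hy
    exact ⟨m + m', by rw [show a ^ (m + m') * (x * y) = (a ^ m * x) * (a ^ m' * y) by ring]; exact B.mul_mem hm hm'⟩

end Algebra

theorem isLocalization_D (R : Type u) [CommRing R] (f : R) :
    @IsLocalization.Away R _ f Γ(Spec (CommRingCat.of R), PrimeSpectrum.basicOpen f) _
      ((Scheme.ΓSpecIso (CommRingCat.of R)).inv ≫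
        (Spec (CommRingCat.of R)).presheaf.map (homOfLE le_top).op).hom.toAlgebra := by
  let e := (Scheme.ΓSpecIso (CommRingCat.of R)).inv
  have key : ∀ (W : (Spec (CommRingCat.of R)).Opens) (hW : W = (Spec (CommRingCat.of R)).basicOpen (e f)),
      @IsLocalization.Away R _ f Γ(Spec (CommRingCat.of R), W) _
        (e ≫ (Spec (CommRingCat.of R)).presheaf.map (homOfLE le_top).op).hom.toAlgebra := by
    rintro _ rfl
    haveI : IsLocalization.Away (e f) Γ(Spec (CommRingCat.of R), (Spec (CommRingCat.of R)).basicOpen (e f)) :=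
      (isAffineOpen_top (Spec (CommRingCat.of R))).isLocalization_basicOpen (e f)
    have h2 := IsLocalization.isLocalization_of_base_ringEquiv (Submonoid.powers (e f))
      Γ(Spec (CommRingCat.of R), (Spec (CommRingCat.of R)).basicOpen (e f))
      (Scheme.ΓSpecIso (CommRingCat.of R)).commRingCatIsoToRingEquiv
    rw [Submonoid.map_powers] at h2
    have hf : (Scheme.ΓSpecIso (CommRingCat.of R)).commRingCatIsoToRingEquiv (e f) = f :=
      Iso.inv_hom_id_apply (Scheme.ΓSpecIso (CommRingCat.of R)) f
    have hpow : Submonoid.powers f =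
        Submonoid.powers ((Scheme.ΓSpecIso (CommRingCat.of R)).commRingCatIsoToRingEquiv (e f)) := by rw [hf]
    simp only [IsLocalization.Away]
    rw [hpow]
    exact h2
  exact key _ (basicOpen_eq_of_affine (R := CommRingCat.of R) f).symm

/-- A finite morphism to a quasi-compact open of an affine scheme extends to a finite algebra. -/
theorem exists_finite_ext (A : Type u) [CommRing A] (U : (Spec (CommRingCat.of A)).Opens)
    (hU : IsCompact (U : Set (Spec (CommRingCat.of A)))) (U' : Scheme.{u}) (g : U' ⟶ (U : Scheme.{u})) [IsFinite g] :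
    ∃ (B : Type u) (_ : CommRing B) (_ : Algebra A B) (i : U' ⟶ Spec (CommRingCat.of B)),
      Module.Finite A B ∧ IsPullback i g (Spec.map (CommRingCat.ofHom (algebraMap A B))) U.ι := by
  classical
  obtain ⟨s, hs⟩ := PrimeSpectrum.isCompact_isOpen_iff.1 ⟨hU, U.isOpen⟩
  let X := Spec (CommRingCat.of A)
  let D : A → X.Opens := fun f => PrimeSpectrum.basicOpen f
  have hUs : ∀ x : X, x ∈ U ↔ ∃ f ∈ s, x ∈ D f := fun x => by
    rw [← SetLike.mem_coe, ← hs]
    change (¬ ((s : Set A) ⊆ (x.asIdeal : Set A))) ↔ ∃ f ∈ s, f ∉ x.asIdeal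
    simp [Set.subset_def]
  let q : U' ⟶ X := g ≫ U.ι
  let φ : CommRingCat.of A ⟶ Γ(U', ⊤) := (Scheme.ΓSpecIso (CommRingCat.of A)).inv ≫ q.appTop
  letI : Algebra A Γ(U', ⊤) := φ.hom.toAlgebra
  haveI : CompactSpace (U : Scheme.{u}) := isCompact_iff_compactSpace.1 hU
  haveI : CompactSpace U' := QuasiCompact.compactSpace_of_compactSpace g
  haveI : QuasiSeparatedSpace U' := quasiSeparatedSpace_of_quasiSeparated q
  let C : Type u := Γ(U', ⊤)
  have hpre : ∀ f : A, q ⁻¹ᵁ D f = U'.basicOpen (φ f) := fun f => by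
    change q ⁻¹ᵁ _ = U'.basicOpen (q.appTop _)
    rw [← Scheme.preimage_basicOpen_top]
    congr 1
    exact (basicOpen_eq_of_affine (R := CommRingCat.of A) f).symm
  have hD : ∀ f : A, IsAffineOpen (D f) := fun f => by
    have h := (isAffineOpen_top X).basicOpen ((Scheme.ΓSpecIso (CommRingCat.of A)).inv f)
    rwa [basicOpen_eq_of_affine (R := CommRingCat.of A)] at h
  have hWaff : ∀ f ∈ s, IsAffineOpen (U.ι ⁻¹ᵁ D f) := fun f hf =>
    (hD f).preimage_of_isOpenImmersion U.ι
      (by rw [Scheme.Opens.opensRange_ι]; exact fun x hx => (hUs x).2 ⟨f, hf, hx⟩)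
  have haff : ∀ f ∈ s, IsAffineOpen (q ⁻¹ᵁ D f) := fun f hf => (hWaff f hf).preimage g
  have hfin : ∀ f ∈ s, (∃ T : Finset C, ∀ c : C, ∃ n : ℕ, algebraMap A C f ^ n * c ∈ Algebra.adjoin A (T : Set C)) ∧
      (∀ c : C, ∃ n : ℕ, IsIntegral A (algebraMap A C f ^ n * c)) := by
    intro f hf
    let Af : Type u := Γ(X, D f)
    let L : Type u := Γ(U', q ⁻¹ᵁ D f)
    letI : Algebra A Af :=
      ((Scheme.ΓSpecIso (CommRingCat.of A)).inv ≫ X.presheaf.map (homOfLE le_top).op).hom.toAlgebra
    letI : Algebra C L := (U'.presheaf.map (homOfLE le_top).op).hom.toAlgebra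
    letI : Algebra Af L := (q.app (D f)).hom.toAlgebra
    letI : Algebra A L := ((algebraMap C L).comp (algebraMap A C)).toAlgebra
    haveI : IsScalarTower A C L := IsScalarTower.of_algebraMap_eq' rfl
    haveI : IsLocalization.Away f Af := isLocalization_D A f
    haveI : IsScalarTower A Af L := IsScalarTower.of_algebraMap_eq fun r => by
      exact (congr($(q.naturality (homOfLE (le_top (a := D f))).op) ((Scheme.ΓSpecIso (CommRingCat.of A)).inv r))).symm
    haveI : IsLocalization.Away (algebraMap A C f) L := by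
      have key : ∀ (W : U'.Opens) (hW : W = U'.basicOpen (φ f)),
          @IsLocalization.Away C _ (φ f) Γ(U', W) _ (U'.presheaf.map (homOfLE le_top).op).hom.toAlgebra := by
        rintro _ rfl
        exact isLocalization_basicOpen_of_qcqs isCompact_univ (isQuasiSeparated_univ) (φ f)
      exact key _ (hpre f)
    haveI : Module.Finite Af L := by
      have h1 : (g.app (U.ι ⁻¹ᵁ D f)).hom.Finite := g.finite_app _ (hWaff f hf)
      have h2 : Function.Surjective (U.ι.app (D f)) := by
        haveI : IsIso (U.ι.app (D f)) := U.ι.isIso_app (D f) (by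
          rw [Scheme.Opens.opensRange_ι]; exact fun x hx => (hUs x).2 ⟨f, hf, hx⟩)
        exact (ConcreteCategory.bijective_of_isIso (U.ι.app (D f))).2
      exact h1.comp (RingHom.Finite.of_surjective _ h2)
    exact ⟨exists_finset_pow_mem f Af L, exists_pow_isIntegral f Af L⟩
  obtain ⟨B, hBfin, hB⟩ := exists_finite_subalgebra s (fun f hf => (hfin f hf).1) (fun f hf => (hfin f hf).2)
  let incl : CommRingCat.of B ⟶ Γ(U', ⊤) := CommRingCat.ofHom B.val.toRingHom
  let i : U' ⟶ Spec (CommRingCat.of B) := U'.toSpecΓ ≫ Spec.map incl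
  let p : Spec (CommRingCat.of B) ⟶ Spec (CommRingCat.of A) := Spec.map (CommRingCat.ofHom (algebraMap A B))
  have hip : (i ≫ p : U' ⟶ Spec (CommRingCat.of A)) = q := by
    change (U'.toSpecΓ ≫ Spec.map incl) ≫ Spec.map _ = q
    rw [Category.assoc, ← Spec.map_comp]
    change U'.toSpecΓ ≫ Spec.map φ = q
    change U'.toSpecΓ ≫ Spec.map ((Scheme.ΓSpecIso (CommRingCat.of A)).inv ≫ q.appTop) = q
    rw [Spec.map_comp, ← Category.assoc, ← Scheme.toSpecΓ_naturality, Category.assoc]
    simp [X]
  let E : A → (Spec (CommRingCat.of B)).Opens := fun f => PrimeSpectrum.basicOpen (algebraMap A B f)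
  have hpE : ∀ f, p ⁻¹ᵁ D f = E f := fun f => by
    ext x
    exact Iff.rfl
  have hiE : ∀ f, i ⁻¹ᵁ E f = U'.basicOpen (φ f) := fun f => by
    rw [← hpre f, ← hpE f, ← hip]
    rfl
  have hiso : ∀ f ∈ s, IsIso (i ∣_ E f) := by
    intro f hf
    let L : Type u := Γ(U', i ⁻¹ᵁ E f)
    letI : Algebra C L := (U'.presheaf.map (homOfLE le_top).op).hom.toAlgebra
    letI : Algebra B Γ(Spec (CommRingCat.of B), E f) :=
      ((Scheme.ΓSpecIso (CommRingCat.of B)).inv ≫
        (Spec (CommRingCat.of B)).presheaf.map (homOfLE le_top).op).hom.toAlgebra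
    letI : Algebra B L := ((algebraMap C L).comp B.val.toRingHom).toAlgebra
    haveI : IsLocalization.Away (algebraMap A C f) L := by
      have key : ∀ (W : U'.Opens) (hW : W = U'.basicOpen (φ f)),
          @IsLocalization.Away C _ (φ f) Γ(U', W) _ (U'.presheaf.map (homOfLE le_top).op).hom.toAlgebra := by
        rintro _ rfl
        exact isLocalization_basicOpen_of_qcqs isCompact_univ (isQuasiSeparated_univ) (φ f)
      exact key _ (hiE f)
    haveI : IsLocalization.Away (algebraMap A B f) Γ(Spec (CommRingCat.of B), E f) :=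
      isLocalization_D B (algebraMap A B f)
    haveI : IsLocalization.Away (algebraMap A B f) L := by
      refine IsLocalization.Away.mk (algebraMap A B f)
        (IsLocalization.Away.algebraMap_isUnit (S := L) (algebraMap A C f)) (fun y => ?_) (fun x y h => ?_)
      · obtain ⟨n, c, hc⟩ := IsLocalization.Away.surj (S := L) (algebraMap A C f) y
        obtain ⟨m, hm⟩ := hB f hf c
        refine ⟨n + m, ⟨_, hm⟩, ?_⟩
        change y * algebraMap C L (algebraMap A C f) ^ (n + m) = algebraMap C L (algebraMap A C f ^ m * c)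
        rw [map_mul, map_pow, ← hc, pow_add]
        ring
      · obtain ⟨n, hn⟩ := IsLocalization.Away.exists_of_eq (S := L) (algebraMap A C f) h
        exact ⟨n, Subtype.ext hn⟩
    let ψ : Γ(Spec (CommRingCat.of B), E f) →+* L := (i.app (E f)).hom
    have hψ : ∀ b, ψ (algebraMap B Γ(Spec (CommRingCat.of B), E f) b) = algebraMap B L b := fun b => by
      refine (congr($(i.naturality (homOfLE (le_top (a := E f))).op) ((Scheme.ΓSpecIso (CommRingCat.of B)).inv b))).trans ?_
      refine congrArg (algebraMap C L) ?_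
      change ((Scheme.ΓSpecIso (CommRingCat.of B)).inv ≫ i.appTop) b = incl b
      have e1 : (Scheme.ΓSpecIso (CommRingCat.of B)).inv ≫ i.appTop = incl := by simp [i]
      rw [e1]
    have hbij : Function.Bijective ψ := by
      have e : ψ = (IsLocalization.algEquiv (Submonoid.powers (algebraMap A B f))
          Γ(Spec (CommRingCat.of B), E f) L).toRingEquiv.toRingHom :=
        IsLocalization.ringHom_ext (Submonoid.powers (algebraMap A B f)) (RingHom.ext fun b => by
          simp [hψ])
      rw [e]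
      exact (IsLocalization.algEquiv _ _ _).bijective
    haveI : IsIso (i.app (E f)) := ConcreteCategory.isIso_iff_bijective _ |>.2 hbij
    haveI : IsAffine (E f).toScheme := by
      have := (isAffineOpen_top (Spec (CommRingCat.of B))).basicOpen
        ((Scheme.ΓSpecIso (CommRingCat.of B)).inv (algebraMap A B f))
      rwa [basicOpen_eq_of_affine (R := CommRingCat.of B)] at this
    haveI : IsAffine (i ⁻¹ᵁ E f).toScheme := by
      have := haff f hf
      rwa [hpre f, ← hiE f] at this
    haveI : IsIso (i ∣_ E f).appTop := by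
      rw [morphismRestrict_appTop]
      haveI : IsIso (i.app ((E f).ι ''ᵁ ⊤)) := by
        rw [Scheme.Opens.ι_image_top]; infer_instance
      infer_instance
    exact (HasAffineProperty.iff_of_isAffine (P := MorphismProperty.isomorphisms Scheme)).2
      ⟨inferInstance, inferInstance⟩
  have hmem : ∀ x : U', ∃ f ∈ s, x ∈ i ⁻¹ᵁ E f := fun x => by
    obtain ⟨f, hf, hx⟩ := (hUs (q.base x)).1 (g.base x).2
    exact ⟨f, hf, by rw [hiE, ← hpre]; exact hx⟩
  have hinj : Function.Injective i.base := fun x y hxy => by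
    obtain ⟨f, hf, hx⟩ := hmem x
    have hy : y ∈ i ⁻¹ᵁ E f := by
      change i.base y ∈ E f
      rw [← hxy]; exact hx
    haveI := hiso f hf
    exact congrArg Subtype.val ((i ∣_ E f).isOpenEmbedding.injective
      (a₁ := ⟨x, hx⟩) (a₂ := ⟨y, hy⟩) (Subtype.ext (by rw [morphismRestrict_base]; exact hxy)))
  haveI : IsOpenImmersion i := IsOpenImmersion.of_forall_source_exists i hinj fun x => by
    obtain ⟨f, hf, hx⟩ := hmem x
    haveI := hiso f hf
    refine ⟨_, (i ⁻¹ᵁ E f).ι, inferInstance, by rwa [Scheme.Opens.opensRange_ι], ?_⟩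
    rw [← morphismRestrict_ι]
    infer_instance
  refine ⟨B, inferInstance, inferInstance, i, hBfin, (IsOpenImmersion.isPullback g i U.ι p hip ?_).flip⟩
  refine le_antisymm (fun z hz => ?_) ?_
  · rw [Scheme.Opens.opensRange_ι] at hz
    obtain ⟨f, hf, hzf⟩ := (hUs (p.base z)).1 hz
    haveI := hiso f hf
    obtain ⟨w, hw⟩ := (i ∣_ E f).homeomorph.surjective ⟨z, hzf⟩
    exact ⟨w.1, congrArg Subtype.val hw |> fun h => by simpa [morphismRestrict_base] using h⟩
  · rintro _ ⟨x, rfl⟩
    change p.base (i.base x) ∈ U.ι.opensRange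
    rw [Scheme.Opens.opensRange_ι, ← Scheme.Hom.comp_apply, hip]
    exact (g.base x).2

end GrothLib.FiniteExt9
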